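import Cfsg.Agent.Lin.Transport

/-! Sporadic isomorphisms between small linear groups and alternating groups. -/

set_option autoImplicit false

open Matrix
open scoped MatrixGroups

namespace Cfsg.Agent.Lin

/-- Pairs `(g, h)` with `g (m a - m b) g^{σ T} = m (h a) - m (h b)`. -/
def formPairs {ι R α : Type*} [Fintype ι] [DecidableEq ι] [CommRing R] (σ : R →+* R)
    (m : α → Matrix ι ι R) : Subgroup (SpecialLinearGroup ι R × Equiv.Perm α) where
  carrier := {x | ∀ a b, (x.1 : Matrix ι ι R) * (m a - m b) * ((x.1 : Matrix ι ι R).map σ)ᵀ = m (x.2 a) - m (x.2 b)}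
  mul_mem' {x y} hx hy a b := by
    have : ((x * y).1 : Matrix ι ι R) * (m a - m b) * (((x * y).1 : Matrix ι ι R).map σ)ᵀ =
        (x.1 : Matrix ι ι R) * ((y.1 : Matrix ι ι R) * (m a - m b) * ((y.1 : Matrix ι ι R).map σ)ᵀ) * ((x.1 : Matrix ι ι R).map σ)ᵀ := by
      simp only [Prod.fst_mul, Matrix.SpecialLinearGroup.coe_mul, Matrix.map_mul, transpose_mul,
        Matrix.mul_assoc]
    rw [this, hy, hx]
    rfl
  one_mem' a b := by simp
  inv_mem' {x} hx a b := by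
    have h := hx (x.2⁻¹ a) (x.2⁻¹ b)
    simp only [Equiv.Perm.coe_inv, Equiv.apply_symm_apply] at h
    have h1 : (x⁻¹.1 : Matrix ι ι R) * (x.1 : Matrix ι ι R) = 1 := by
      rw [← Matrix.SpecialLinearGroup.coe_mul, Prod.fst_inv, inv_mul_cancel]; rfl
    have h2 : ((x.1 : Matrix ι ι R).map σ)ᵀ * ((x⁻¹.1 : Matrix ι ι R).map σ)ᵀ = 1 := by
      rw [← transpose_mul, ← Matrix.map_mul, h1]; simp
    rw [← h]
    simp only [← Matrix.mul_assoc]
    rw [h1, Matrix.one_mul, Matrix.mul_assoc, h2, Matrix.mul_one]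
    rfl

theorem mem_formPairs_of_base {ι R α : Type*} [Fintype ι] [DecidableEq ι] [CommRing R]
    (σ : R →+* R) (m : α → Matrix ι ι R) (g : SpecialLinearGroup ι R) (h : Equiv.Perm α) (b : α)
    (H : ∀ a, (g : Matrix ι ι R) * (m a - m b) * ((g : Matrix ι ι R).map σ)ᵀ = m (h a) - m (h b)) : (g, h) ∈ formPairs σ m := by
  intro a c
  have : m a - m c = (m a - m b) - (m c - m b) := by abel
  rw [this, Matrix.mul_sub, Matrix.sub_mul, H, H]
  simp

theorem center_mem_formPairs {ι R α : Type*} [Fintype ι] [DecidableEq ι] [CommRing R]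
    (σ : R →+* R) (m : α → Matrix ι ι R) (hσ : ∀ r : R, r ^ Fintype.card ι = 1 → r * σ r = 1)
    (z : SpecialLinearGroup ι R) (hz : z ∈ Subgroup.center (SpecialLinearGroup ι R)) :
    (z, 1) ∈ formPairs σ m := by
  obtain ⟨r, hr, hz⟩ := Matrix.SpecialLinearGroup.mem_center_iff.1 hz
  intro a b
  have h1 : ((z : Matrix ι ι R).map σ)ᵀ = σ r • (1 : Matrix ι ι R) := by
    rw [← hz]
    ext i j
    by_cases h : i = j <;> simp [h, diagonal_apply, eq_comm]
  have h2 : (z : Matrix ι ι R) = r • (1 : Matrix ι ι R) := by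
    rw [← hz]
    ext i j
    by_cases h : i = j <;> simp [h]
  rw [h1, h2]
  simp [smul_smul, mul_comm (σ r), hσ r hr]

section A5

instance factPrimeFive : Fact (Nat.Prime 5) := ⟨by norm_num⟩

/-- Symmetric matrices over `ZMod 5` realising the permutation module of `A₅`. -/
def mA5 : Fin 5 → Matrix (Fin 2) (Fin 2) (ZMod 5) :=
  ![!![0, 0; 0, 0], !![1, 0; 0, 2], !![2, 2; 2, 3], !![3, 1; 1, 1], !![4, 2; 2, 4]]

theorem psl2_five_equiv : Nonempty (PSL(2, ZMod 5) ≃* alternatingGroup (Fin 5)) := by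
  have := ProjectiveSpecialLinearGroup.rank_two_simple (F := ZMod 5) (by simp)
  refine nonempty_equiv_alternating_of_prod_quot
    (SL2.commutator_eq_top (a := 2) (by decide) (by decide)) _
    (formPairs (RingHom.id _) mA5) (exists_snd_of_transvection_zmod _ fun i j hij => ?_)
    (center_mem_formPairs _ _ (by decide)) ?_ ?_
  · fin_cases i <;> fin_cases j
    · exact absurd rfl hij
    · exact ⟨⟨![1, 4, 0, 2, 3], ![2, 0, 3, 4, 1], by decide, by decide⟩,
        mem_formPairs_of_base _ _ _ _ 0 (by decide +kernel +revert)⟩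
    · exact ⟨⟨![3, 4, 0, 1, 2], ![2, 3, 4, 0, 1], by decide, by decide⟩,
        mem_formPairs_of_base _ _ _ _ 0 (by decide +kernel +revert)⟩
    · exact absurd rfl hij
  · refine ⟨SpecialLinearGroup.transvection (i := 0) (j := 1) (by decide) 1, fun h => ?_⟩
    have := h 1 0
    revert this
    decide +kernel
  · have h1 := card_PSL2 (F := ZMod 5) (ZMod.card 5)
    have h2 := two_mul_nat_card_alternatingGroup (α := Fin 5)
    rw [Nat.card_perm] at h2
    change _ ≤ Nat.card PSL(2, ZMod 5)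
    generalize Nat.card PSL(2, ZMod 5) = N at h1 ⊢
    generalize Nat.card (alternatingGroup (Fin 5)) = N' at h2 ⊢
    norm_num [Nat.factorial] at h1 h2
    omega

end A5

section A8

/-- Alternating matrices over `ZMod 2` realising the permutation module of `A₈`. -/
def mA8 : Fin 8 → Matrix (Fin 4) (Fin 4) (ZMod 2) :=
  ![!![0, 0, 0, 0; 0, 0, 0, 0; 0, 0, 0, 0; 0, 0, 0, 0],
    !![0, 0, 0, 1; 0, 0, 1, 0; 0, 1, 0, 0; 1, 0, 0, 0],
    !![0, 0, 1, 0; 0, 0, 1, 1; 1, 1, 0, 0; 0, 1, 0, 0],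
    !![0, 0, 1, 1; 0, 0, 0, 1; 1, 0, 0, 1; 1, 1, 1, 0],
    !![0, 1, 0, 0; 1, 0, 1, 1; 0, 1, 0, 1; 0, 1, 1, 0],
    !![0, 1, 0, 1; 1, 0, 0, 0; 0, 0, 0, 1; 1, 0, 1, 0],
    !![0, 1, 1, 0; 1, 0, 1, 0; 1, 1, 0, 1; 0, 0, 1, 0],
    !![0, 1, 1, 1; 1, 0, 0, 1; 1, 0, 0, 0; 1, 1, 0, 0]]

theorem psl4_two_equiv : Nonempty (PSL(4, ZMod 2) ≃* alternatingGroup (Fin 8)) := by
  have := isSimpleGroup_PSL (ι := Fin 4) (F := ZMod 2) (by simp)
  refine nonempty_equiv_alternating_of_prod_quot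
    (commutator_SL_eq_top (by simp)) _
    (formPairs (RingHom.id _) mA8) (exists_snd_of_transvection_zmod _ fun i j hij => ?_)
    (center_mem_formPairs _ _ (by decide)) ?_ ?_
  · fin_cases i <;> fin_cases j
    · exact absurd rfl hij
    · exact ⟨⟨![5, 6, 4, 7, 2, 0, 1, 3], ![5, 6, 4, 7, 2, 0, 1, 3], by decide, by decide⟩,
        mem_formPairs_of_base _ _ _ _ 0 (by decide +kernel +revert)⟩
    · exact ⟨⟨![7, 2, 1, 5, 6, 3, 4, 0], ![7, 2, 1, 5, 6, 3, 4, 0], by decide, by decide⟩,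
        mem_formPairs_of_base _ _ _ _ 0 (by decide +kernel +revert)⟩
    · exact ⟨⟨![1, 0, 7, 4, 3, 6, 5, 2], ![1, 0, 7, 4, 3, 6, 5, 2], by decide, by decide⟩,
        mem_formPairs_of_base _ _ _ _ 0 (by decide +kernel +revert)⟩
    · exact ⟨⟨![4, 5, 6, 7, 0, 1, 2, 3], ![4, 5, 6, 7, 0, 1, 2, 3], by decide, by decide⟩,
        mem_formPairs_of_base _ _ _ _ 0 (by decide +kernel +revert)⟩
    · exact absurd rfl hij
    · exact ⟨⟨![1, 0, 7, 6, 5, 4, 3, 2], ![1, 0, 7, 6, 5, 4, 3, 2], by decide, by decide⟩,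
        mem_formPairs_of_base _ _ _ _ 0 (by decide +kernel +revert)⟩
    · exact ⟨⟨![2, 7, 0, 5, 6, 3, 4, 1], ![2, 7, 0, 5, 6, 3, 4, 1], by decide, by decide⟩,
        mem_formPairs_of_base _ _ _ _ 0 (by decide +kernel +revert)⟩
    · exact ⟨⟨![2, 3, 0, 1, 6, 7, 4, 5], ![2, 3, 0, 1, 6, 7, 4, 5], by decide, by decide⟩,
        mem_formPairs_of_base _ _ _ _ 0 (by decide +kernel +revert)⟩
    · exact ⟨⟨![1, 0, 3, 2, 7, 6, 5, 4], ![1, 0, 3, 2, 7, 6, 5, 4], by decide, by decide⟩,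
        mem_formPairs_of_base _ _ _ _ 0 (by decide +kernel +revert)⟩
    · exact absurd rfl hij
    · exact ⟨⟨![6, 5, 4, 7, 2, 1, 0, 3], ![6, 5, 4, 7, 2, 1, 0, 3], by decide, by decide⟩,
        mem_formPairs_of_base _ _ _ _ 0 (by decide +kernel +revert)⟩
    · exact ⟨⟨![1, 0, 3, 2, 5, 4, 7, 6], ![1, 0, 3, 2, 5, 4, 7, 6], by decide, by decide⟩,
        mem_formPairs_of_base _ _ _ _ 0 (by decide +kernel +revert)⟩
    · exact ⟨⟨![3, 2, 1, 0, 6, 7, 4, 5], ![3, 2, 1, 0, 6, 7, 4, 5], by decide, by decide⟩,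
        mem_formPairs_of_base _ _ _ _ 0 (by decide +kernel +revert)⟩
    · exact ⟨⟨![5, 4, 6, 7, 1, 0, 2, 3], ![5, 4, 6, 7, 1, 0, 2, 3], by decide, by decide⟩,
        mem_formPairs_of_base _ _ _ _ 0 (by decide +kernel +revert)⟩
    · exact absurd rfl hij
  · refine ⟨SpecialLinearGroup.transvection (i := 0) (j := 1) (by decide) 1, fun h => ?_⟩
    have := h 1 0
    revert this
    decide +kernel
  · have h1 := card_PSL (F := ZMod 2) (ZMod.card 2) 4 (by norm_num)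
    have h2 := two_mul_nat_card_alternatingGroup (α := Fin 8)
    rw [Nat.card_perm] at h2
    change _ ≤ Nat.card PSL(4, ZMod 2)
    generalize Nat.card PSL(4, ZMod 2) = N at h1 ⊢
    generalize Nat.card (alternatingGroup (Fin 8)) = N' at h2 ⊢
    norm_num [Nat.factorial, Fin.prod_univ_four] at h1 h2
    omega

end A8

section A6

/-- A computable model of the field with nine elements. -/
abbrev F9 : Type := QuadraticAlgebra (ZMod 3) (-1) 0

instance factF9 : Fact (∀ r : ZMod 3, r ^ 2 ≠ -1 + 0 * r) := ⟨by decide⟩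

instance fintypeF9 : Fintype F9 := Fintype.ofEquiv _ (QuadraticAlgebra.equivProd (-1 : ZMod 3) 0).symm

theorem card_F9 : Fintype.card F9 = 9 := by
  rw [Fintype.ofEquiv_card]; simp

/-- Hermitian matrices over `F9` realising the permutation module of `A₆`. -/
def mA6 : Fin 6 → Matrix (Fin 2) (Fin 2) F9 :=
  ![!![⟨0, 0⟩, ⟨0, 0⟩; ⟨0, 0⟩, ⟨0, 0⟩],
    !![⟨0, 0⟩, ⟨0, 1⟩; ⟨0, 2⟩, ⟨0, 0⟩],
    !![⟨0, 0⟩, ⟨0, 2⟩; ⟨0, 1⟩, ⟨1, 0⟩],
    !![⟨1, 0⟩, ⟨0, 2⟩; ⟨0, 1⟩, ⟨0, 0⟩],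
    !![⟨1, 0⟩, ⟨1, 2⟩; ⟨1, 1⟩, ⟨1, 0⟩],
    !![⟨1, 0⟩, ⟨2, 2⟩; ⟨2, 1⟩, ⟨1, 0⟩]]

theorem psl2_nine_equiv : Nonempty (PSL(2, F9) ≃* alternatingGroup (Fin 6)) := by
  have := ProjectiveSpecialLinearGroup.rank_two_simple (F := F9)
    (by rw [Nat.card_eq_fintype_card, card_F9]; norm_num)
  have key : ∀ (i j : Fin 2) (hij : i ≠ j),
      (∃ x, (SpecialLinearGroup.transvection hij (⟨1, 0⟩ : F9), x) ∈ formPairs (starRingEnd F9) mA6) →
      (∃ x, (SpecialLinearGroup.transvection hij (⟨0, 1⟩ : F9), x) ∈ formPairs (starRingEnd F9) mA6) →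
      ∀ c : F9, ∃ x, (SpecialLinearGroup.transvection hij c, x) ∈ formPairs (starRingEnd F9) mA6 := by
    rintro i j hij ⟨x, hx⟩ ⟨y, hy⟩ c
    have hc : (c.re.val : F9) * ⟨1, 0⟩ + (c.im.val : F9) * ⟨0, 1⟩ = c := by
      revert c
      decide
    have h := Subgroup.mul_mem _ (Subgroup.pow_mem _ hx c.re.val) (Subgroup.pow_mem _ hy c.im.val)
    rw [Prod.pow_mk, Prod.pow_mk, Prod.mk_mul_mk, transvection_pow, transvection_pow,
      ← SpecialLinearGroup.transvection_add] at h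
    exact ⟨_, hc ▸ h⟩
  refine nonempty_equiv_alternating_of_prod_quot
    (SL2.commutator_eq_top (a := ⟨0, 1⟩) (by decide) (by decide)) _
    (formPairs (starRingEnd F9) mA6) (exists_snd_of_transvection _ fun i j hij => ?_)
    (center_mem_formPairs _ _ (by decide)) ?_ ?_
  · fin_cases i <;> fin_cases j
    · exact absurd rfl hij
    · exact key _ _ hij
        ⟨⟨![0, 1, 4, 3, 5, 2], ![0, 1, 5, 3, 2, 4], by decide, by decide⟩,
        mem_formPairs_of_base _ _ _ _ 0 (by decide +kernel +revert)⟩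
        ⟨⟨![3, 0, 2, 1, 4, 5], ![1, 3, 2, 0, 4, 5], by decide, by decide⟩,
        mem_formPairs_of_base _ _ _ _ 0 (by decide +kernel +revert)⟩
    · exact key _ _ hij
        ⟨⟨![0, 1, 2, 4, 5, 3], ![0, 1, 2, 5, 3, 4], by decide, by decide⟩,
        mem_formPairs_of_base _ _ _ _ 0 (by decide +kernel +revert)⟩
        ⟨⟨![1, 2, 0, 3, 4, 5], ![2, 0, 1, 3, 4, 5], by decide, by decide⟩,
        mem_formPairs_of_base _ _ _ _ 0 (by decide +kernel +revert)⟩
    · exact absurd rfl hij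
  · refine ⟨SpecialLinearGroup.transvection (i := 0) (j := 1) (by decide) 1, fun h => ?_⟩
    have := h 2 0
    revert this
    decide +kernel
  · have h1 := card_PSL2 card_F9
    have h2 := two_mul_nat_card_alternatingGroup (α := Fin 6)
    rw [Nat.card_perm] at h2
    change _ ≤ Nat.card PSL(2, F9)
    generalize Nat.card PSL(2, F9) = N at h1 ⊢
    generalize Nat.card (alternatingGroup (Fin 6)) = N' at h2 ⊢
    norm_num [Nat.factorial] at h1 h2
    omega

end A6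

end Cfsg.Agent.Lin
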